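import Cfsg.Agent.H147.Gen.Eng
import Cfsg.Agent.H303.MaxTh
import Cfsg.Agent.H399.Gen.Basic
import Cfsg.Agent.H478.Th3C
import Cfsg.Agent.H49.ThFiveDat
import Cfsg.Agent.H49.ThSevenDat
import Cfsg.Agent.KFacts.Th.Main
import Cfsg.Agent.H272.Gen.ThWord

/-!
# S4327, the row of the Thompson group (helper272)

Explicit words `x`, `g` with `x (g x g⁻¹)` of order 19, for `x` of order 2, 5, 7, 13, 31; an element of order 3 commutes
with an involution `t`, so it acts nontrivially on `O_2 (C (t))` and two conjugates generate a group of even order, four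
of them a group of order divisible by 19.  The chain above a group of order divisible by 19 has length at most 7.
-/

set_option autoImplicit false
set_option Elab.async false

namespace Cfsg.Agent.H272.Gen.Th

open Subgroup Cfsg Cfsg.Agent.H147.Gen Cfsg.Agent.H940.Eng Cfsg.Agent.H940.Eng.D Cfsg.Agent.H303.MaxTh
open Cfsg.Agent.H964.NoHall Cfsg.Agent.Th.Gen248 Cfsg.Agent.Th.IndexUpper

universe u

/-- the possible orders of the proper subgroups of order divisible by 19 -/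
def os : List ℕ := [19, 38, 57, 114, 171, 342, 3420, 6840, 5515776, 11031552, 16547328, 33094656]

set_option maxRecDepth 100000 in
theorem chk : chkO2 l_th n_th 19 ld19 os [] 60 loc o_th = true := by decide +kernel

theorem chain : chainOK os 7 = true := by decide +kernel

theorem ho (B : Base) (K : Subgroup G) (ha : 19 ∣ Nat.card K) (hK : K ≠ ⊤) : Nat.card K ∈ os :=
  orders2 (ctx B) ld19 m19 os 60 chk K ha hK

theorem cg (B : Base) {x : G} (hx : x ≠ 1) {k : ℕ} (f : Fin k → G) {z : G} (hz : orderOf z = 19)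
    (h : z ∈ closure (Set.range fun i => f i * x * (f i)⁻¹)) : CG (k + 7) x := by
  have := fin
  refine CG.of_eng (ctx B) os (ho B) chain hx f ?_
  rw [← hz]
  exact dvd_card_of_mem h

theorem cg2 (B : Base) {x g : G} (hx : x ≠ 1) (h : orderOf (x * (g * x * g⁻¹)) = 19) : CG 11 x := by
  refine (cg B hx ![1, g] h ?_).mono (by norm_num)
  refine mul_mem (subset_closure ⟨0, ?_⟩) (subset_closure ⟨1, ?_⟩)
  · simp
  · simp

theorem ne_one_of_order {x : G} {p : ℕ} (hp : p.Prime) (hx : orderOf x = p) : x ≠ 1 := by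
  rintro rfl
  rw [orderOf_one] at hx
  exact hp.one_lt.ne hx

/-- every involution times a conjugate has order 19 -/
theorem inv19 {i : G} (hi : orderOf i = 2) : ∃ h : G, orderOf (i * (h * i * h⁻¹)) = 19 := by
  obtain ⟨g1, h1⟩ := Cfsg.Agent.H723.Spor.Th.hone i hi
  obtain ⟨g2, h2⟩ := Cfsg.Agent.H723.Spor.Th.hone _ o2
  obtain ⟨a, b, ha, hb⟩ : ∃ a b : G, a = thE (.g .a) ∧ b = (thE thG)⁻¹ := ⟨_, _, rfl, rfl⟩
  have h3 : orderOf (a * (b * a * b⁻¹)) = 19 := by rw [ha, hb]; exact e2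
  rw [← ha, ← h1] at h2
  have h4 : i = (g1⁻¹ * g2) * a * (g1⁻¹ * g2)⁻¹ := by
    calc i = g1⁻¹ * (g1 * i * g1⁻¹) * g1 := by group
      _ = g1⁻¹ * (g2 * a * g2⁻¹) * g1 := by rw [h2]
      _ = _ := by group
  refine ⟨(g1⁻¹ * g2) * b * (g1⁻¹ * g2)⁻¹, ?_⟩
  rw [← h3, ← MulEquiv.orderOf_eq (MulAut.conj (g1⁻¹ * g2)) (a * (b * a * b⁻¹)), h4]
  congr 1
  simp only [MulAut.conj_apply]
  group

theorem gen2 (B : Base) : GenI G 11 2 := by
  intro x hx
  obtain ⟨h, hh⟩ := inv19 hx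
  exact cg2 B (ne_one_of_order Nat.prime_two hx) hh

theorem gen3 (B : Base) : GenI G 11 3 := by
  intro x hx
  obtain ⟨t, ht, hxt⟩ := Cfsg.Agent.H478.ThThree.exists_invol hx
  obtain ⟨g, hg⟩ := Cfsg.Agent.H723.Spor.Th.hone t ht
  apply CG.of_conj g
  obtain ⟨y, hy⟩ : ∃ y : G, y = g * x * g⁻¹ := ⟨_, rfl⟩
  rw [← hy]
  have hy3 : orderOf y = 3 := by
    rw [hy, ← hx]
    exact MulEquiv.orderOf_eq (MulAut.conj g) x
  have hyz : y * gTh 1 = gTh 1 * y := by
    rw [hy, ← hg]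
    calc g * x * g⁻¹ * (g * t * g⁻¹) = g * (x * t) * g⁻¹ := by group
      _ = g * (t * x) * g⁻¹ := by rw [hxt]
      _ = _ := by group
  have L := Cfsg.Agent.KFacts.Th.Main.large Cfsg.Agent.KFacts.Th.Main.ctx
  have hy1 : y ≠ 1 := ne_one_of_order Nat.prime_three hy3
  obtain ⟨u, hu, huy⟩ : ∃ u ∈ Cfsg.Agent.Th.CStruct.Q0 gTh, y * u ≠ u * y := by
    by_contra hno
    push Not at hno
    rcases Cfsg.Agent.KFacts.LargeE.cent_eq L hyz hno with h | h
    · exact hy1 h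
    · have h2 := orderOf_dvd_of_pow_eq_one (x := y) (n := 2) (by rw [pow_two, h]; exact L.z_sq)
      rw [hy3] at h2
      omega
  obtain ⟨b, hb⟩ : ∃ b : G, b = (u * y * u⁻¹) * y⁻¹ := ⟨_, rfl⟩
  have hbQ : b ∈ Cfsg.Agent.Th.CStruct.Q0 gTh := by
    have h1 : b = u * (y * u⁻¹ * y⁻¹) := by rw [hb]; group
    rw [h1]
    exact mul_mem hu (L.conj_mem y hyz _ (inv_mem hu))
  have hb1 : b ≠ 1 := by
    intro h
    apply huy
    rw [hb, mul_inv_eq_one, mul_inv_eq_iff_eq_mul] at h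
    exact h.symm
  obtain ⟨m, hm⟩ : ∃ m : ℕ, orderOf (b ^ m) = 2 := by
    rcases L.sq b hbQ with h | h
    · exact ⟨1, by rw [pow_one]; exact orderOf_eq_prime (by rw [pow_two]; exact h) hb1⟩
    · exact ⟨2, by rw [pow_two, h]; exact orderOf_eq_prime (by rw [pow_two]; exact L.z_sq) L.z_ne⟩
  obtain ⟨h, hh⟩ := inv19 hm
  refine cg B hy1 ![1, u, h, h * u] hh ?_
  have m0 : y ∈ closure (Set.range fun i => (![1, u, h, h * u] : Fin 4 → G) i * y * ((![1, u, h, h * u] : Fin 4 → G) i)⁻¹) :=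
    subset_closure ⟨0, by simp⟩
  have m1 : u * y * u⁻¹ ∈ closure (Set.range fun i => (![1, u, h, h * u] : Fin 4 → G) i * y * ((![1, u, h, h * u] : Fin 4 → G) i)⁻¹) :=
    subset_closure ⟨1, by simp⟩
  have m2 : h * y * h⁻¹ ∈ closure (Set.range fun i => (![1, u, h, h * u] : Fin 4 → G) i * y * ((![1, u, h, h * u] : Fin 4 → G) i)⁻¹) :=
    subset_closure ⟨2, by simp⟩
  have m3 : (h * u) * y * (h * u)⁻¹ ∈ closure (Set.range fun i => (![1, u, h, h * u] : Fin 4 → G) i * y * ((![1, u, h, h * u] : Fin 4 → G) i)⁻¹) :=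
    subset_closure ⟨3, by simp⟩
  refine mul_mem (pow_mem ?_ m) ?_
  · rw [hb]
    exact mul_mem m1 (inv_mem m0)
  · rw [← conj_pow]
    refine pow_mem ?_ m
    have h1 : h * b * h⁻¹ = ((h * u) * y * (h * u)⁻¹) * (h * y * h⁻¹)⁻¹ := by rw [hb]; group
    rw [h1]
    exact mul_mem m3 (inv_mem m2)

/-- one class of subgroups -/
theorem gen_one (B : Base) {p : ℕ} {x g : Wd} (hp : p.Prime) (hx : orderOf (thE x) = p)
    (h : orderOf (thE x * (thE g * thE x * (thE g)⁻¹)) = 19) : CG 11 (thE x : G) :=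
  cg2 B (ne_one_of_order hp hx) h

theorem gen5 (B : Base) : GenI G 11 5 := by
  intro v hv
  obtain ⟨hf, x, y, z, a, D⟩ := Cfsg.Agent.H49.ThFive.exists_dat
  obtain ⟨g1, h1⟩ := D.all hv
  obtain ⟨g2, h2⟩ := D.all o5
  have h3 : CG 11 (thE x5 : G) := gen_one B (by norm_num) o5 (pq_order e5 n5)
  apply CG.of_conj g1
  rw [h1, ← h2]
  exact h3.conj g2

theorem gen7 (B : Base) : GenI G 11 7 := by
  intro v hv
  obtain ⟨g1, h1⟩ := Cfsg.Agent.H49.ThSeven.dat.one v hv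
  obtain ⟨g2, h2⟩ := Cfsg.Agent.H49.ThSeven.dat.one _ o7
  have h3 : CG 11 (thE x7 : G) := gen_one B (by norm_num) o7 (pq_order e7 n7)
  apply CG.of_conj g1
  rw [h1, ← h2]
  exact h3.conj g2

theorem gen13 (B : Base) : GenI G 11 13 := by
  have := fin
  exact Cfsg.Agent.H399.Gen.genI_of_one (by norm_num) (by rw [card]; decide +kernel) o13
    (gen_one B (by norm_num) o13 (pq_order e13 n13))

theorem gen31 (B : Base) : GenI G 11 31 := by
  have := fin
  exact Cfsg.Agent.H399.Gen.genI_of_one (by norm_num) (by rw [card]; decide +kernel) o31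
    (gen_one B (by norm_num) o31 (pq_order e31 n31))

theorem gen19 (B : Base) : GenI G 11 19 :=
  (GenI.of_eng (ctx B) (by norm_num) os (ho B) chain).mono (by norm_num)

theorem primes {p : ℕ} (hp : p.Prime) (h : p ∣ Nat.card G) :
    p = 2 ∨ p = 3 ∨ p = 5 ∨ p = 7 ∨ p = 13 ∨ p = 19 ∨ p = 31 := by
  have h1 : Nat.card G = 2 ^ 15 * (3 ^ 10 * (5 ^ 3 * (7 ^ 2 * (13 * (19 * 31))))) := by rw [card]; decide +kernel
  rw [h1] at h
  rcases (Nat.Prime.dvd_mul hp).1 h with h | h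
  · exact Or.inl ((Nat.prime_dvd_prime_iff_eq hp (by norm_num)).1 (hp.dvd_of_dvd_pow h))
  rcases (Nat.Prime.dvd_mul hp).1 h with h | h
  · exact Or.inr (Or.inl ((Nat.prime_dvd_prime_iff_eq hp (by norm_num)).1 (hp.dvd_of_dvd_pow h)))
  rcases (Nat.Prime.dvd_mul hp).1 h with h | h
  · exact Or.inr (Or.inr (Or.inl ((Nat.prime_dvd_prime_iff_eq hp (by norm_num)).1 (hp.dvd_of_dvd_pow h))))
  rcases (Nat.Prime.dvd_mul hp).1 h with h | h
  · exact Or.inr (Or.inr (Or.inr (Or.inl ((Nat.prime_dvd_prime_iff_eq hp (by norm_num)).1 (hp.dvd_of_dvd_pow h)))))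
  rcases (Nat.Prime.dvd_mul hp).1 h with h | h
  · exact Or.inr (Or.inr (Or.inr (Or.inr (Or.inl ((Nat.prime_dvd_prime_iff_eq hp (by norm_num)).1 h)))))
  rcases (Nat.Prime.dvd_mul hp).1 h with h | h
  · exact Or.inr (Or.inr (Or.inr (Or.inr (Or.inr (Or.inl ((Nat.prime_dvd_prime_iff_eq hp (by norm_num)).1 h))))))
  · exact Or.inr (Or.inr (Or.inr (Or.inr (Or.inr (Or.inr ((Nat.prime_dvd_prime_iff_eq hp (by norm_num)).1 h))))))

theorem genI (B : Base) (p : ℕ) (hp : p.Prime) : GenI G 11 p := by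
  intro x hx
  have := fin
  rcases primes hp (hx ▸ orderOf_dvd_natCard x) with rfl | rfl | rfl | rfl | rfl | rfl | rfl
  · exact gen2 B x hx
  · exact gen3 B x hx
  · exact gen5 B x hx
  · exact gen7 B x hx
  · exact gen13 B x hx
  · exact gen19 B x hx
  · exact gen31 B x hx

theorem gen11 (B : Base) : Gen11 G :=
  gen11_of_inner Cfsg.Agent.H303.MaxTh.center (genI B) fun α => by
    obtain ⟨k, rfl⟩ := Cfsg.Agent.KFacts.Th.Main.inner α
    exact ⟨k, rfl⟩

/-- the row `Th` -/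
theorem gen_Th (B : Base) {K : Type u} [Group K] (h : Spor.IsoTh K) : Gen11 K := by
  obtain ⟨e⟩ := h
  exact (gen11 B).congr e.symm

end Cfsg.Agent.H272.Gen.Th
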